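import Mathlib
import Cfsg.Agent.Lib.Helper71.SUG2.Defs

/-!
# Project SUG (S2412), block [II], package [II-BPOW]: `T_w` and a diagonal element constant on the
support of `w` are powers of their product.  ([II-WISO] is taken as a hypothesis.)
-/

set_option autoImplicit false
open scoped Matrix

namespace Cfsg.Agent.Lib.Helper49.SUG2

open Cfsg.Agent.Lib.Helper71.SUG2

universe u

/-- Package [II-BPOW] from [II-WISO]. -/
theorem pkgBPow_of (hW : Cfsg.Agent.Lib.Helper71.SUG2.PkgWIso.{u}) :
    Cfsg.Agent.Lib.Helper71.SUG2.PkgBPow.{u} := by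
  intro F _ _ hF n hn t d δ a ht hd hδ hδa K hK
  have h2 : (2 : F) = 0 := f4_two hF
  have hww : H n F (wvec n F) (wvec n F) = 0 := hW F hF n hn
  have htt : t * t = 1 := by
    apply smat_ext
    apply Matrix.ext_of_mulVec_single
    intro i
    rw [smat_mul, ← Matrix.mulVec_mulVec, ht, Tmat_mulVec, Tmat_mulVec, smat_one,
      Matrix.one_mulVec]
    have hadd : H n F (Pi.single i 1 + H n F (Pi.single i 1) (wvec n F) • wvec n F) (wvec n F)
        = H n F (Pi.single i 1) (wvec n F)
          + H n F (Pi.single i 1) (wvec n F) * H n F (wvec n F) (wvec n F) := by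
      simp only [H_apply, Pi.add_apply, Pi.smul_apply, smul_eq_mul, add_mul,
        Finset.sum_add_distrib, Finset.mul_sum, mul_assoc]
    rw [hadd, hww, mul_zero, add_zero, add_assoc, ← add_smul]
    have h0 : H n F (Pi.single i 1) (wvec n F) + H n F (Pi.single i 1) (wvec n F) = 0 := by
      rw [← two_mul, h2, zero_mul]
    rw [h0, zero_smul, add_zero]
  have hd3 : d * d * d = 1 := by
    apply smat_ext
    rw [smat_mul, smat_mul, hd, smat_one, Matrix.diagonal_mul_diagonal,
      Matrix.diagonal_mul_diagonal, ← Matrix.diagonal_one]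
    congr 1
    funext i
    have h3 := f4_cube hF (δ i) (hδ i)
    rw [← h3]; ring
  have hcomm : t * d = d * t := by
    apply smat_ext
    apply Matrix.ext_of_mulVec_single
    intro i
    rw [smat_mul, smat_mul, ← Matrix.mulVec_mulVec, ← Matrix.mulVec_mulVec, ht, hd, Tmat_mulVec,
      Tmat_mulVec, Matrix.mulVec_add, Matrix.mulVec_smul]
    congr 1
    have hδw : Matrix.diagonal δ *ᵥ wvec n F = a • wvec n F := by
      funext j
      rw [Matrix.mulVec_diagonal]
      simp only [Pi.smul_apply, smul_eq_mul, wvec]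
      by_cases hj : j.val < 4
      · rw [hδa j hj]
      · simp [hj]
    have hH : H n F (Matrix.diagonal δ *ᵥ Pi.single i 1) (wvec n F)
        = a * H n F (Pi.single i 1) (wvec n F) := by
      rw [H_apply, H_apply, Finset.mul_sum]
      apply Finset.sum_congr rfl
      intro j _
      rw [Matrix.mulVec_diagonal]
      by_cases hj : j.val < 4
      · rw [hδa j hj]; ring
      · simp [wvec, hj]
    rw [hH, hδw, smul_smul, mul_comm]
  have hc : Commute t d := hcomm
  have ht3 : (t * d) ^ 3 = t := by
    rw [hc.mul_pow]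
    have e1 : t ^ 3 = t := by rw [pow_succ, pow_two, htt, one_mul]
    have e2 : d ^ 3 = 1 := by rw [pow_succ, pow_two]; exact hd3
    rw [e1, e2, mul_one]
  have hd4 : (t * d) ^ 4 = d := by
    rw [hc.mul_pow]
    have e1 : t ^ 4 = 1 := by
      have e : t ^ 4 = (t * t) * (t * t) := by simp only [pow_succ, pow_zero, one_mul, mul_assoc]
      rw [e, htt, one_mul]
    have e2 : d ^ 4 = d := by
      have e : d ^ 4 = (d * d * d) * d := by simp only [pow_succ, pow_zero, one_mul, mul_assoc]
      rw [e, hd3, one_mul]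
    rw [e1, e2, one_mul]
  refine ⟨?_, ?_⟩
  · rw [← ht3]; exact K.pow_mem hK 3
  · rw [← hd4]; exact K.pow_mem hK 4

end Cfsg.Agent.Lib.Helper49.SUG2
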