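import Mathlib
import Cfsg.Agent.Lib.Helper71.SUG2.Defs

/-!
# Project SUG (S2412), block [II], package [II-CK]: `C(K)` is closed under zero, scalars and
third points, and is `K`-stable.  (The existence of transvections in `SU`, [II-EX], is taken as a
hypothesis.)
-/

set_option autoImplicit false
open scoped Matrix

namespace Cfsg.Agent.Lib.Helper49.SUG2

open Cfsg.Agent.Lib.Helper71.SUG2

universe u

/-- Package [II-CK] from [II-EX]. -/
theorem pkgCK_of (hEx : Cfsg.Agent.Lib.Helper71.SUG2.PkgEx.{u}) :
    Cfsg.Agent.Lib.Helper71.SUG2.PkgCK.{u} := by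
  intro F _ _ hF n K
  have hstab : ∀ g ∈ K, ∀ v ∈ CK K, smat g *ᵥ v ∈ CK K := by
    intro g hg v hv
    refine ⟨by rw [H_smat]; exact hv.1, ?_⟩
    intro g' hg'
    obtain ⟨gv, hgv⟩ := hEx F hF n v hv.1
    have hgvK : gv ∈ K := hv.2 gv hgv
    have hgg : g' = g * gv * g⁻¹ := by
      apply smat_ext
      apply Matrix.ext_of_mulVec_single
      intro i
      rw [hg', Tmat_mulVec, smat_mul, smat_mul, ← Matrix.mulVec_mulVec, ← Matrix.mulVec_mulVec,
        hgv, Tmat_mulVec, Matrix.mulVec_add, Matrix.mulVec_smul, smat_mulVec_inv]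
      congr 2
      rw [← H_smat g (smat g⁻¹ *ᵥ _) v, smat_mulVec_inv]
    rw [hgg]
    exact K.mul_mem (K.mul_mem hg hgvK) (K.inv_mem hg)
  refine ⟨⟨?_, ?_, ?_⟩, hstab⟩
  · -- zero
    refine ⟨by rw [H_apply]; simp, ?_⟩
    intro g hg
    have h1 : g = 1 := by
      apply smat_ext
      rw [hg, smat_one]
      apply Matrix.ext_of_mulVec_single
      intro i
      rw [Tmat_mulVec, Matrix.one_mulVec, smul_zero, add_zero]
    rw [h1]
    exact K.one_mem
  · -- scalars
    intro v hv a ha
    have ha3 : a ^ 3 = 1 := f4_cube hF a ha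
    have hT : Tmat n F (a • v) = Tmat n F v := by
      apply Matrix.ext_of_mulVec_single
      intro i
      rw [Tmat_mulVec, Tmat_mulVec]
      congr 1
      have hH : H n F (Pi.single i 1) (a • v) = a ^ 2 * H n F (Pi.single i 1) v := by
        rw [H_apply, H_apply, Finset.mul_sum]
        apply Finset.sum_congr rfl
        intro j _
        simp only [Pi.smul_apply, smul_eq_mul]
        ring
      rw [hH, smul_smul]
      congr 1
      rw [mul_comm, ← mul_assoc]
      have : a * a ^ 2 = 1 := by rw [← ha3]; ring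
      rw [this, one_mul]
    refine ⟨?_, ?_⟩
    · have hH : H n F (a • v) (a • v) = a ^ 3 * H n F v v := by
        rw [H_apply, H_apply, Finset.mul_sum]
        apply Finset.sum_congr rfl
        intro j _
        simp only [Pi.smul_apply, smul_eq_mul]
        ring
      rw [hH, hv.1, mul_zero]
    · intro g hg
      rw [hT] at hg
      exact hv.2 g hg
  · -- third points
    intro e he f hf
    obtain ⟨gf, hgf⟩ := hEx F hF n f hf.1
    have hgfK : gf ∈ K := hf.2 gf hgf
    have h := hstab gf hgfK e he
    rw [hgf, Tmat_mulVec] at h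
    exact h

end Cfsg.Agent.Lib.Helper49.SUG2
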